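import Mathlib
import Cfsg.Agent.Lib.Helper76.S3O.Defs
import Cfsg.Agent.Lib.Helper76.Sharp3Index2
import Cfsg.Agent.Lib.Helper32.Sh3C

set_option autoImplicit false

namespace Cfsg.Agent.Lib.Helper76.S3O

open MulAction

/-- three distinct points -/
theorem exists_three {Ω : Type*} [Finite Ω] (h3 : 3 ≤ Nat.card Ω) :
    ∃ a b c : Ω, a ≠ b ∧ a ≠ c ∧ b ≠ c := by
  classical
  have := Fintype.ofFinite Ω
  rw [Nat.card_eq_fintype_card] at h3
  have h2 : 2 < Fintype.card Ω := by omega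
  rw [← Finset.card_univ] at h2
  obtain ⟨a, b, c, -, -, -, hab, hac, hbc⟩ := Finset.two_lt_card_iff.mp h2
  exact ⟨a, b, c, hab, hac, hbc⟩

/-- [IDX] a sharply triply transitive group of even degree has a subgroup of index two. -/
theorem exists_index_two {G Ω : Type*} [Group G] [Finite G] [MulAction G Ω] [Finite Ω]
    (h3t : T3 G Ω) (h3 : S3 G Ω) (heven : Even (Nat.card Ω)) (h4 : 4 ≤ Nat.card Ω) :
    ∃ M : Subgroup G, M.index = 2 := by
  classical
  have := Fintype.ofFinite Ω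
  obtain ⟨a, b, c, hab, hac, hbc⟩ := exists_three (Ω := Ω) (by omega)
  obtain ⟨s, hsa, hsb, hsc⟩ := h3t a b c b a c hab hac hbc hab.symm hbc hac
  have hss : s * s = 1 := by
    apply h3 _ a b c hab hac hbc
    · rw [mul_smul, hsa, hsb]
    · rw [mul_smul, hsb, hsa]
    · rw [mul_smul, hsc, hsc]
  rw [Nat.card_eq_fintype_card] at heven h4
  obtain ⟨N, hN, hN2, hNs⟩ := Cfsg.Agent.Lib.Helper32.sharp3_exists_N h3t h3 heven h4 hab s
    hsa hsb hss
  exact Cfsg.Agent.Lib.Helper76.exists_index_two_of_sharp3 h3t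
    (fun g a b c hab hbc hac => h3 g a b c hab hac hbc) hab hac hbc s hsa hsb hss N hN hN2 hNs

end Cfsg.Agent.Lib.Helper76.S3O
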