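import Mathlib
import Cfsg.Agent.Lib.Helper76.S3O.Defs
import Cfsg.Agent.Lib.Helper76.S3O.IDX
import Cfsg.Agent.Lib.Helper76.S3O.ZAS
import Cfsg.Agent.Lib.Helper76.S3O.KER
import Cfsg.Agent.Lib.Helper76.S3O.CARDM
import Cfsg.Agent.Lib.Helper73.ZassMain

set_option autoImplicit false

namespace Cfsg.Agent.Lib.Helper76.S3O

open MulAction

/-- [PSL] the subgroup of index two is `PSL(2,K)`. -/
theorem exists_psl {G Ω : Type*} [Group G] [Finite G] [MulAction G Ω] [Finite Ω]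
    (h3t : T3 G Ω) (h3 : S3 G Ω) (heven : Even (Nat.card Ω)) (h6 : 6 ≤ Nat.card Ω)
    (M : Subgroup G) (hM : M.index = 2) :
    ∃ (K : Type) (_ : Field K) (_ : Fintype K), Fintype.card K + 1 = Nat.card Ω ∧ (2 : K) ≠ 0 ∧
      Nonempty (↥M ≃* Matrix.ProjectiveSpecialLinearGroup (Fin 2) K) := by
  classical
  obtain ⟨x, o, c, hxo, -, -⟩ := exists_three (Ω := Ω) (by omega)
  obtain ⟨K, hKM, hKx, hKn, hKs, hKt, hKab⟩ := exists_kernel h3t h3 heven (by omega) M hM x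
  have hZ := isZassenhaus h3t h3 heven h6 M hM
  refine Cfsg.Agent.Lib.Helper73.ZassMain.zass_psl2 hZ hxo (K.subgroupOf M) ?_ ?_ ?_ ?_
    (card_stabM h3t h3 (by omega) M hM hxo)
  · intro u hu
    rw [mem_stabilizer_iff]
    exact hKx _ (Subgroup.mem_subgroupOf.mp hu)
  · constructor
    intro n hn g
    rw [Subgroup.mem_subgroupOf, Subgroup.mem_subgroupOf] at hn ⊢
    have hg : ((g : ↥M) : G) • x = x := g.2
    exact hKn _ hg _ hn
  · intro u hu v hv
    apply Subtype.ext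
    exact hKab _ (Subgroup.mem_subgroupOf.mp hu) _ (Subgroup.mem_subgroupOf.mp hv)
  · intro y z hy hz
    obtain ⟨k, hk, hkyz⟩ := hKt y z hy hz
    refine ⟨⟨⟨k, hKM hk⟩, Subgroup.mem_subgroupOf.mpr hk⟩, hkyz, ?_⟩
    rintro ⟨⟨k', hk'M⟩, hk'⟩ hk'yz
    have hk'K : k' ∈ K := Subgroup.mem_subgroupOf.mp hk'
    have hk'yz' : k' • y = z := hk'yz
    have h1 : k⁻¹ * k' = 1 := by
      by_contra hne
      apply hKs _ (K.mul_mem (K.inv_mem hk) hk'K) hne y hy
      rw [mul_smul, hk'yz', ← hkyz, inv_smul_smul]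
    have h2 : k' = k := by
      rw [inv_mul_eq_one] at h1
      exact h1.symm
    subst h2
    rfl

end Cfsg.Agent.Lib.Helper76.S3O
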