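import Mathlib
import Cfsg.Agent.Lib.Helper76.S3O.Defs
import Cfsg.Agent.Lib.Helper76.S3O.IDX
import Cfsg.Agent.Lib.Helper76.S3O.PSL
import Cfsg.Agent.Lib.Helper76.S3O.CENT
import Cfsg.Agent.Lib.Helper76.S3O.AUT
import Cfsg.Agent.Lib.Helper76.S3O.Q3

set_option autoImplicit false

namespace Cfsg.Agent.Lib.Helper76.S3O

open MulAction

/-- A sharply triply transitive group of degree `p^f + 1`, `p` odd, `f` odd, is `PGL(2,p^f)`. -/
theorem main {G Ω : Type*} [Group G] [Finite G] [MulAction G Ω] [Finite Ω]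
    (h3t : T3 G Ω) (h3 : S3 G Ω) {p f : ℕ} (hp : p.Prime) (hp2 : p ≠ 2) (hf : Odd f)
    (hcard : Nat.card Ω = p ^ f + 1) :
    ∃ (F : Type) (_ : Field F) (_ : Fintype F), Fintype.card F = p ^ f ∧
      Nonempty (G ≃* Matrix.ProjGenLinGroup (Fin 2) F) := by
  have hpodd : Odd p := hp.odd_of_ne_two hp2
  have hqodd : Odd (p ^ f) := hpodd.pow
  have heven : Even (Nat.card Ω) := by
    rw [hcard]
    exact hqodd.add_one
  have hf0 : f ≠ 0 := by
    rintro rfl
    simp at hf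
  have hp3 : 3 ≤ p := by
    have := hp.two_le
    omega
  have hq3 : 3 ≤ p ^ f := le_trans hp3 (Nat.le_self_pow hf0 p)
  by_cases hq : p ^ f = 3
  · have : Fact (Nat.Prime 3) := ⟨Nat.prime_three⟩
    refine ⟨ZMod 3, inferInstance, inferInstance, ?_, pgl_of_four h3t h3 (by omega)⟩
    rw [ZMod.card, hq]
  · have h6 : 6 ≤ Nat.card Ω := by
      obtain ⟨k, hk⟩ := hqodd
      omega
    obtain ⟨M, hM⟩ := exists_index_two h3t h3 heven (by omega)
    obtain ⟨K, iK, iF, hK, h2, ⟨e⟩⟩ := exists_psl h3t h3 heven h6 M hM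
    refine ⟨K, iK, iF, by omega, ?_⟩
    exact pgl_of_index_two hp hf (by omega) h2 M hM e
      (fun g hg => centralizer_trivial h3t h3 heven (by omega) M hM g hg)

end Cfsg.Agent.Lib.Helper76.S3O
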